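import Cfsg.Prelude.Def_Involutions
import Cfsg.Prelude.Def_TwoFusion
import Mathlib.GroupTheory.Sylow

/-!
The statement of Goldschmidt's theorem on strongly closed abelian 2-subgroups as a hypothesis for its consequences.
-/

set_option autoImplicit false

namespace Cfsg.Lib.Goldschmidt

universe u

/-- A simple group with a non-trivial strongly closed abelian subgroup of a Sylow `2`-subgroup has abelian Sylow
`2`-subgroups or a strongly embedded subgroup. -/
def GoldProp : Prop :=
  ∀ (X : Type u) [Group X] [Finite X] [IsSimpleGroup X] (S : Sylow 2 X) (A : Subgroup X), A ≠ ⊥ →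
    IsMulCommutative A → Cfsg.IsStronglyClosed A (S : Subgroup X) →
      IsMulCommutative (S : Subgroup X) ∨ ∃ H : Subgroup X, Cfsg.IsStronglyEmbedded H

end Cfsg.Lib.Goldschmidt
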