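import Cfsg.Agent.Goldschmidt.Consequences.Setting
import Cfsg.Agent.BenderSE.Final
import Cfsg.Agent.BenderSE.Dependents.Rows
import Cfsg.Agent.Walter.Main
import Cfsg.Agent.Ree.Field.Glue
import Cfsg.Agent.S0252
import Cfsg.Agent.S0253
import Cfsg.Agent.S1644
import Cfsg.Prelude.Def_LocalEven

/-!
Simple groups with a strongly closed abelian 2-subgroup are Goldschmidt groups.
-/

set_option autoImplicit false
set_option linter.style.haveILetI false

namespace Cfsg.Lib.Goldschmidt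

open Subgroup

universe u

variable {G : Type u} [Group G] [Finite G]

omit [Finite G] in
theorem goldschmidt_of_binary {F : Type} [Field F] [Fintype F] {n : ℕ} (hn : 2 ≤ n)
    (hF : Fintype.card F = 2 ^ n) (e : G ≃* Matrix.ProjectiveSpecialLinearGroup (Fin 2) F) :
    Cfsg.IsGoldschmidtGroup G := by
  rcases Nat.lt_or_eq_of_le hn with h | h
  · exact Or.inr (Or.inl ⟨F, inferInstance, inferInstance, n, h, hF, ⟨e⟩⟩)
  · subst h
    haveI : Fact (Nat.Prime 5) := ⟨by norm_num⟩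
    obtain ⟨g₄⟩ := Cfsg.Agent.S0252.result (F := F) (by rw [hF]; norm_num)
    obtain ⟨g₅⟩ := Cfsg.Agent.S0253.result (F := ZMod 5) (ZMod.card 5)
    exact Or.inr (Or.inr (Or.inr (Or.inr (Or.inl
      ⟨ZMod 5, inferInstance, inferInstance, 5, ZMod.card 5, le_rfl, Or.inr rfl, ⟨(e.trans g₄).trans g₅.symm⟩⟩))))

/-- The simple groups with a strongly embedded subgroup. -/
theorem goldschmidt_of_embedded [IsSimpleGroup G] (hna : ¬ IsMulCommutative G) {H : Subgroup G}
    (hH : Cfsg.IsStronglyEmbedded H) : Cfsg.IsGoldschmidtGroup G := by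
  have h2 := BenderSE.comm_of_nonab hH hna
  obtain ⟨Q, hQ, hQn, htr, hrg⟩ := BenderSE.regProp G inferInstance H hH h2
  rcases (BenderSE.simple_data hH h2 hQ hQn htr hrg).1 with
    ⟨F, iF, iF', ⟨n, hn, hF⟩, ⟨e⟩⟩ | h | ⟨F, iF, iF', n, hn, hF, e⟩
  · exact goldschmidt_of_binary hn hF e
  · exact Or.inr (Or.inr (Or.inl h))
  · exact Or.inr (Or.inr (Or.inr (Or.inl ⟨F, iF, iF', n, hn,
      by rw [hF, ← pow_mul, mul_comm, pow_mul]; norm_num, e⟩)))

/-- The simple groups with abelian Sylow 2-subgroups. -/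
theorem goldschmidt_of_abelian (hN : Ree.Field.NoFieldProp.{u}) [IsSimpleGroup G] (hna : ¬ IsMulCommutative G)
    (hab : Walter.AbTwo G) : Cfsg.IsGoldschmidtGroup G := by
  classical
  haveI : Fact (Nat.Prime 2) := ⟨Nat.prime_two⟩
  rcases Walter.walterProp G hna hab with ⟨F, iF, iT, ⟨m, hm, hF⟩, ⟨e⟩⟩ | ⟨F, iF, iT, h8, h5, he⟩ |
    ⟨h8, t, E, E₀, F, iF, iT, h5, hmod, hh⟩
  · exact goldschmidt_of_binary hm hF e
  · exact Or.inr (Or.inr (Or.inr (Or.inr (Or.inl ⟨F, iF, iT, Fintype.card F, rfl, h5, h8, he⟩))))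
  have J : Ree.Field.JRSetting t E E₀ F := ⟨inferInstance, hna, hab, h8, hh, h5, hmod⟩
  have hE := hN G t E E₀ F J
  obtain ⟨c⟩ := Ree.Field.centralizer_iso J hE
  rcases Cfsg.Agent.S0343.result (fun P a b => Subtype.ext (hab P a a.2 b b.2)) (F := F) (by omega) t hh.ord
    ⟨c⟩ with ⟨m, hm, hq, -⟩ | ⟨h45, -⟩
  · obtain ⟨f⟩ := hh.iso
    obtain ⟨S, hS⟩ := (IsPGroup.of_card (G := zpowers t) (p := 2) (n := 1)
      (by rw [Nat.card_zpowers, hh.ord, pow_one])).exists_le_sylow
    have hSC : (S : Subgroup G) ≤ centralizer ({t} : Set G) := fun x hx =>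
      mem_centralizer_singleton_iff.2 (hab S x hx t (hS (mem_zpowers t)))
    have hodd : Odd (centralizer ({t} : Set G)).index := by
      rw [← Nat.not_even_iff_odd, even_iff_two_dvd]
      exact fun h => S.not_dvd_index (h.trans (index_dvd_of_le hSC))
    have htC : t ∈ centralizer ({t} : Set G) := mem_centralizer_singleton_iff.2 rfl
    refine Or.inl ⟨inferInstance, hna, t, E, m, hm, hh.ord, hodd, ⟨zpowers_le.2 htC, ?_, ?_, ?_, ?_⟩,
      F, iF, iT, hq, ⟨(MulEquiv.subgroupCongr hE).trans f⟩⟩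
    · exact fun x hx => mem_centralizer_singleton_iff.2 (hh.comm x hx).symm.eq
    · intro a ha b hb
      obtain ⟨i, rfl⟩ := mem_zpowers_iff.1 ha
      exact ((hh.comm b hb).zpow_left i).eq
    · refine (Subgroup.eq_bot_iff_forall _).2 fun x hx => ?_
      obtain ⟨i, rfl⟩ := mem_zpowers_iff.1 hx.1
      rcases Int.even_or_odd i with ⟨j, rfl⟩ | ⟨j, rfl⟩
      · rw [← two_mul, zpow_mul, zpow_ofNat, pow_two, hh.tt, one_zpow]
      · refine absurd ?_ hh.disj
        have := hx.2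
        rwa [zpow_add, zpow_one, zpow_mul, zpow_ofNat, pow_two, hh.tt, one_zpow, one_mul] at this
    · refine le_antisymm (sup_le (zpowers_le.2 htC)
        fun x hx => mem_centralizer_singleton_iff.2 (hh.comm x hx).symm.eq) fun x hx => ?_
      obtain ⟨e, he, rfl | rfl⟩ := hh.split x (mem_centralizer_singleton_iff.1 hx)
      · exact mem_sup_right he
      · exact mul_mem_sup (mem_zpowers t) he
  · have h5' : Fintype.card F = 5 := by omega
    obtain ⟨g⟩ := Cfsg.Agent.S0253.result (F := F) h5'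
    obtain ⟨T⟩ : Nonempty (Sylow 2 G) := inferInstance
    exact Or.inr (Or.inr (Or.inr (Or.inr (Or.inr (Cfsg.Agent.S1644.result T
      ⟨⟨fun a b => Subtype.ext (hab T a a.2 b b.2)⟩⟩ (h8 T) t hh.ord
      (c.trans (MulEquiv.prodCongr (MulEquiv.refl _) g)))))))

/-- A non-abelian simple group with a non-trivial strongly closed abelian subgroup of a Sylow 2-subgroup is a
Goldschmidt group. -/
theorem goldschmidt_of_stronglyClosed (hG : GoldProp.{u}) (hN : Ree.Field.NoFieldProp.{u}) [IsSimpleGroup G]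
    (hna : ¬ IsMulCommutative G) (S : Sylow 2 G) {A : Subgroup G} (hA : A ≠ ⊥) (hc : IsMulCommutative A)
    (hsc : Cfsg.IsStronglyClosed A (S : Subgroup G)) : Cfsg.IsGoldschmidtGroup G := by
  rcases hG G S A hA hc hsc with h | ⟨H, hH⟩
  · refine goldschmidt_of_abelian hN hna fun T x hx y hy => ?_
    haveI : Fact (Nat.Prime 2) := ⟨Nat.prime_two⟩
    have e := Sylow.equiv T S
    have := e.injective (a₁ := (⟨x, hx⟩ : T) * ⟨y, hy⟩) (a₂ := (⟨y, hy⟩ : T) * ⟨x, hx⟩)
      (by rw [map_mul, map_mul]; exact h.is_comm.comm _ _)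
    exact congrArg Subtype.val this
  · exact goldschmidt_of_embedded hna hH

end Cfsg.Lib.Goldschmidt
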