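import Cfsg.Agent.Fusion.GroupSystem
import Cfsg.Agent.Fusion.NormalCriteria
import Cfsg.Agent.Components.Misc.PPrimeP
import Cfsg.Prelude.Def_QuasithinSetup

/-!
The centric radical fully normalised subgroups of the fusion system of a group lie in its Alperin–Goldschmidt
conjugation family.
-/

set_option autoImplicit false
set_option linter.unusedSectionVars false
set_option linter.style.haveILetI false

namespace Cfsg.Lib.Goldschmidt.AGFamily

open Subgroup Cfsg.Lib.Fusion Cfsg.FusionSystem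
open scoped commutatorElement

universe u

variable {G : Type u} [Group G] [Finite G]

theorem refl_isConj {T : Sylow 2 G} {D : Subgroup G} (hD : D ≤ (T : Subgroup G)) :
    (Cfsg.groupFusionSystem (T : Subgroup G)).IsConj D D := by
  refine isConj_group_iff.2 ⟨hD, hD, 1, ?_⟩
  ext x
  simp

theorem centralizer_le (T : Sylow 2 G) {D : Subgroup G}
    (hn : (Cfsg.groupFusionSystem (T : Subgroup G)).IsFullyNormalized D)
    (hc : (Cfsg.groupFusionSystem (T : Subgroup G)).IsCentric D) {x : G} (hx : x ∈ centralizer (D : Set G)) :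
    x ∈ D ⊔ (Cfsg.oddCore ↥(normalizer (D : Set G))).map (normalizer (D : Set G)).subtype := by
  classical
  haveI : Fact (Nat.Prime 2) := ⟨Nat.prime_two⟩
  set C := centralizer (D : Set G) with hC
  set N := normalizer (D : Set G) with hN
  have hCN : C ≤ N := centralizer_le_normalizer _
  have hmax := (fullyCentralized_group_iff T hn.1).1 (fullyCentralized_of_fullyNormalized_group T hn)
  have hZD : centralizerIn (T : Subgroup G) D ≤ D := hc.2 D (refl_isConj hn.1)
  obtain ⟨R, hR⟩ := (sylow_subgroupOf_iff hmax.1 hmax.2.1).2 hmax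
  have hcen : normalizer ((R : Subgroup C) : Set C) ≤ centralizer ((R : Subgroup C) : Set C) := fun g _ =>
    mem_centralizer_iff.2 fun r hr => by
      have hr' : (r : G) ∈ D := by
        rw [SetLike.mem_coe, hR] at hr
        exact hZD hr
      exact Subtype.ext (mem_centralizer_iff.1 g.2 _ hr')
  set K : Subgroup C := (MonoidHom.transferSylow R hcen).ker with hK
  have hcompl := MonoidHom.ker_transferSylow_isComplement' R hcen
  have hKodd : Odd (Nat.card K) := by
    rw [← Nat.not_even_iff_odd, even_iff_two_dvd]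
    intro h2
    exact R.not_dvd_index (hcompl.index_eq_card ▸ h2)
  -- `K` is the set of elements of odd order of `C`
  have hKmem : ∀ c : C, c ∈ K ↔ Odd (orderOf c) := by
    intro c
    refine ⟨fun h => hKodd.of_dvd_nat (by rw [← orderOf_mk c h]; exact orderOf_dvd_natCard _), fun h => ?_⟩
    rw [hK, MonoidHom.mem_ker]
    obtain ⟨k, hk⟩ := R.2 (MonoidHom.transferSylow R hcen c)
    have h1 : orderOf (MonoidHom.transferSylow R hcen c) ∣ orderOf c := orderOf_map_dvd _ c
    have h2 : orderOf (MonoidHom.transferSylow R hcen c) ∣ 2 ^ k := orderOf_dvd_of_pow_eq_one hk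
    exact orderOf_eq_one_iff.1 (Nat.eq_one_of_dvd_coprimes ((Nat.coprime_two_left.2 h).pow_left k) h2 h1)
  set K' : Subgroup N := (K.map C.subtype).subgroupOf N with hK'
  have hKmem' : ∀ y : N, y ∈ K' ↔ (y : G) ∈ C ∧ Odd (orderOf (y : G)) := by
    intro y
    rw [hK', mem_subgroupOf, mem_map]
    constructor
    · rintro ⟨c, hcK, hcy⟩
      rw [← hcy]
      exact ⟨c.2, by rw [Subgroup.coe_subtype, Subgroup.orderOf_coe]; exact (hKmem c).1 hcK⟩
    · rintro ⟨h1, h2⟩
      exact ⟨⟨y, h1⟩, (hKmem _).2 (by rw [← Subgroup.orderOf_coe]; exact h2), rfl⟩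
  haveI : K'.Normal := ⟨fun y hy g => by
    rw [hKmem'] at hy ⊢
    refine ⟨?_, ?_⟩
    · refine mem_centralizer_iff.2 fun d hd => ?_
      have hd' : (g : G)⁻¹ * d * g ∈ D := by
        have := (mem_normalizer_iff.1 (inv_mem g.2) d).1 hd
        rwa [inv_inv] at this
      have h := mem_centralizer_iff.1 hy.1 _ hd'
      show d * ((g : G) * y * (g : G)⁻¹) = (g : G) * y * (g : G)⁻¹ * d
      calc d * ((g : G) * y * (g : G)⁻¹) = (g : G) * (((g : G)⁻¹ * d * g) * y) * (g : G)⁻¹ := by group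
        _ = (g : G) * ((y : G) * ((g : G)⁻¹ * d * g)) * (g : G)⁻¹ := by rw [h]
        _ = _ := by group
    · rw [Subgroup.coe_mul, Subgroup.coe_mul, Subgroup.coe_inv, ← MulAut.conj_apply, MulEquiv.orderOf_eq]
      exact hy.2⟩
  have hK'O : K' ≤ Cfsg.oddCore ↥N := by
    refine Cfsg.Lib.Components.le_pPrimeCore ?_
    refine Nat.coprime_two_right.2 ?_
    rwa [hK', Nat.card_congr (subgroupOfEquivOfLe ((map_subtype_le K).trans hCN)).toEquiv,
      card_map_of_injective C.subtype_injective]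
  -- decompose `x`
  have hx' : (⟨x, hx⟩ : C) ∈ K ⊔ (R : Subgroup C) := by
    rw [hcompl.sup_eq_top]; exact mem_top _
  obtain ⟨k, hk, r, hr, hkr⟩ := mem_sup_of_normal_left.1 hx'
  rw [show x = (k : G) * (r : G) from (congrArg Subtype.val hkr).symm, sup_comm]
  refine mul_mem_sup ⟨⟨k, hCN k.2⟩, hK'O ((hKmem' _).2 ⟨k.2, ?_⟩), rfl⟩ ?_
  swap
  · rw [hR] at hr
    exact hZD hr
  show Odd (orderOf ((k : C) : G))
  rw [Subgroup.orderOf_coe]
  exact (hKmem k).1 hk

/-- The odd core of `N(D)` centralises the 2-subgroup `D`. -/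
theorem oddCore_commute {T : Sylow 2 G} {D : Subgroup G} (hD : D ≤ (T : Subgroup G)) :
    ⁅(Cfsg.oddCore ↥(normalizer (D : Set G))).map (normalizer (D : Set G)).subtype, D⁆ = ⊥ := by
  haveI : Fact (Nat.Prime 2) := ⟨Nat.prime_two⟩
  set N := normalizer (D : Set G)
  set O := (Cfsg.oddCore ↥N).map N.subtype with hO
  haveI : (Cfsg.oddCore ↥N).Normal := Cfsg.Lib.Components.pPrimeCore_normal' 2
  rw [eq_bot_iff, commutator_le]
  rintro _ ⟨o, ho, rfl⟩ d hd
  have hdN : d ∈ N := le_normalizer hd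
  have h1 : ⁅(o : G), d⁆ ∈ D := by
    rw [commutatorElement_def]
    exact mul_mem ((mem_normalizer_iff.1 o.2 d).1 hd) (inv_mem hd)
  have h2 : ⁅(o : G), d⁆ ∈ O := by
    refine ⟨o * (⟨d, hdN⟩ * o⁻¹ * ⟨d, hdN⟩⁻¹), mul_mem ho
      ((inferInstance : (Cfsg.oddCore ↥N).Normal).conj_mem _ (inv_mem ho) _), ?_⟩
    simp [commutatorElement_def, mul_assoc]
  have hDp : IsPGroup 2 D := T.2.to_le hD
  have hOc : (Nat.card O).Coprime 2 := by
    rw [hO, card_map_of_injective N.subtype_injective]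
    exact Cfsg.Lib.Components.coprime_card_pPrimeCore 2
  have hm : ⁅(o : G), d⁆ ∈ D ⊓ O := ⟨h1, h2⟩
  rw [Cfsg.Lib.Components.coprime_pGroup_disjoint hDp hOc] at hm
  exact hm

/-- Centric radical fully normalised subgroups are in the conjugation family. -/
theorem mem_agConjFamily (T : Sylow 2 G) (hT : (T : Subgroup G) ≠ ⊥) {D : Subgroup G}
    (hn : (Cfsg.groupFusionSystem (T : Subgroup G)).IsFullyNormalized D)
    (hc : (Cfsg.groupFusionSystem (T : Subgroup G)).IsCentric D)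
    (hr : (Cfsg.groupFusionSystem (T : Subgroup G)).IsRadical 2 D) :
    D ∈ Cfsg.agConjFamily (T : Subgroup G) := by
  classical
  haveI : Fact (Nat.Prime 2) := ⟨Nat.prime_two⟩
  set N := normalizer (D : Set G) with hN
  set O := (Cfsg.oddCore ↥N).map N.subtype with hO
  set W := (Cfsg.pPrimePCore 2 ↥N).map N.subtype with hW
  haveI : (Cfsg.pPrimePCore 2 ↥N).Normal := Cfsg.Lib.PPrimeP.pPrimePCore_normal
  haveI : (Cfsg.oddCore ↥N).Normal := Cfsg.Lib.Components.pPrimeCore_normal' 2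
  have hDT := hn.1
  have hOW : O ≤ W := by
    rintro _ ⟨o, ho, rfl⟩
    refine ⟨o, ?_, rfl⟩
    show QuotientGroup.mk' (Cfsg.pPrimeCore 2 ↥N) o ∈ Cfsg.pCore 2 (↥N ⧸ Cfsg.pPrimeCore 2 ↥N)
    rw [show QuotientGroup.mk' (Cfsg.pPrimeCore 2 ↥N) o = 1 from (QuotientGroup.eq_one_iff o).2 ho]
    exact one_mem _
  have hDW : D ≤ W := by
    intro d hd
    refine ⟨⟨d, le_normalizer hd⟩, ?_, rfl⟩
    haveI : (D.subgroupOf N).Normal := normal_in_normalizer
    haveI : ((D.subgroupOf N).map (QuotientGroup.mk' (Cfsg.pPrimeCore 2 ↥N))).Normal :=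
      Subgroup.Normal.map inferInstance _ (QuotientGroup.mk'_surjective _)
    refine le_sSup (a := (D.subgroupOf N).map (QuotientGroup.mk' (Cfsg.pPrimeCore 2 ↥N)))
      (show _ ∈ {K : Subgroup (↥N ⧸ Cfsg.pPrimeCore 2 ↥N) | K.Normal ∧ IsPGroup 2 K} from
        ⟨inferInstance, ((T.2.to_le hDT).of_equiv (subgroupOfEquivOfLe le_normalizer).symm).map _⟩) ?_
    exact mem_map_of_mem _ (mem_subgroupOf.2 hd)
  refine ⟨fun h => hT ?_, hDT, ?_, ?_, oddCore_commute hDT, le_antisymm (sup_le hOW hDW) ?_⟩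
  · rw [eq_bot_iff, ← h]
    exact fun x hx => hc.2 D (refl_isConj hDT) ⟨hx, by rw [h]; simp [mem_centralizer_iff]⟩
  · obtain ⟨P, hP⟩ := (sylow_subgroupOf_iff inf_le_right (T.2.to_le inf_le_left)).2
      ((fullyNormalized_group_iff T hDT).1 hn)
    exact ⟨P, hP⟩
  · exact fun x hx => (sup_le hDW hOW) (centralizer_le T hn hc hx)
  · -- radical
    rintro _ ⟨w, hw, rfl⟩
    have haut : (Cfsg.groupFusionSystem (T : Subgroup G)).autGroup D = (D.normalizerMonoidHom).range := by
      rw [autGroup_group hDT]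
      refine le_antisymm ((closure_le _).2 ?_) ?_
      · rintro α ⟨g, -, hg⟩
        have hgN : g ∈ N := mem_normalizer_iff.2 fun d => ⟨fun hd => by
            rw [← hg ⟨d, hd⟩]; exact (α ⟨d, hd⟩).2, fun hd => by
            obtain ⟨e, he⟩ := α.surjective ⟨_, hd⟩
            have h := hg e
            rw [he] at h
            have h' : d = (e : G) := mul_left_cancel (mul_right_cancel h)
            rw [h']; exact e.2⟩
        exact ⟨⟨g, hgN⟩, MulEquiv.ext fun d => Subtype.ext (hg d).symm⟩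
      · rintro _ ⟨g, rfl⟩
        exact subset_closure ⟨g, trivial, fun d => rfl⟩
    set φ := D.normalizerMonoidHom
    set A := (Cfsg.groupFusionSystem (T : Subgroup G)).autGroup D
    set U : Subgroup A := ((Cfsg.pPrimePCore 2 ↥N).map φ).subgroupOf A with hU
    haveI : U.Normal := ⟨fun a ha b => by
      obtain ⟨c, hc', hca⟩ := mem_subgroupOf.1 ha
      obtain ⟨g, hg⟩ := haut.le b.2
      exact mem_subgroupOf.2 ⟨g * c * g⁻¹, (inferInstance : (Cfsg.pPrimePCore 2 ↥N).Normal).conj_mem c hc' g,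
        by rw [map_mul, map_mul, map_inv, hca, hg]; rfl⟩⟩
    have hUp : IsPGroup 2 U := by
      rintro ⟨⟨_, ha'⟩, ha⟩
      obtain ⟨c, hc', rfl⟩ := mem_subgroupOf.1 ha
      obtain ⟨k, hk⟩ := (Cfsg.Lib.Components.isPGroup_pCore (G := ↥N ⧸ Cfsg.pPrimeCore 2 ↥N) 2) ⟨_, hc'⟩
      refine ⟨k, Subtype.ext (Subtype.ext ?_)⟩
      have h1 : QuotientGroup.mk' (Cfsg.pPrimeCore 2 ↥N) (c ^ 2 ^ k) = 1 := by
        rw [map_pow]; exact congrArg Subtype.val hk
      have h2 : ((c ^ 2 ^ k : ↥N) : G) ∈ O := ⟨_, (QuotientGroup.eq_one_iff _).1 h1, rfl⟩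
      show φ c ^ 2 ^ k = 1
      rw [← map_pow]
      refine MulEquiv.ext fun d => Subtype.ext ?_
      show ((c ^ 2 ^ k : ↥N) : G) * d * ((c ^ 2 ^ k : ↥N) : G)⁻¹ = d
      have h3 := commutator_le.1 (oddCore_commute hDT).le _ h2 _ d.2
      rw [mem_bot, commutatorElement_def] at h3
      rw [← mul_inv_eq_one]
      exact h3
    have hmem : φ w ∈ (Cfsg.pCore 2 A).map A.subtype :=
      ⟨⟨φ w, haut.ge ⟨w, rfl⟩⟩, le_sSup (a := U)
        (show U ∈ {K : Subgroup A | K.Normal ∧ IsPGroup 2 K} from ⟨inferInstance, hUp⟩)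
        (mem_subgroupOf.2 (mem_map_of_mem φ hw)), rfl⟩
    rw [hr.2] at hmem
    obtain ⟨d, hd⟩ := hmem
    have hdw : (d : G)⁻¹ * (w : G) ∈ centralizer (D : Set G) := mem_centralizer_iff.2 fun e he => by
      have h := congrArg (fun α : MulAut D => ((α ⟨e, he⟩ : D) : G)) hd
      change (d : G) * e * (d : G)⁻¹ = (w : G) * e * (w : G)⁻¹ at h
      calc e * ((d : G)⁻¹ * w) = (d : G)⁻¹ * ((d : G) * e * (d : G)⁻¹) * w := by group
        _ = (d : G)⁻¹ * ((w : G) * e * (w : G)⁻¹) * w := by rw [h]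
        _ = (d : G)⁻¹ * w * e := by group
    have := mul_mem (mem_sup_left d.2 : (d : G) ∈ D ⊔ O) (centralizer_le T hn hc hdw)
    rw [mul_inv_cancel_left, sup_comm] at this
    exact this

end Cfsg.Lib.Goldschmidt.AGFamily
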