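import Cfsg.Agent.Goldschmidt.Consequences.Setting
import Cfsg.Agent.Goldschmidt.Consequences.AGFamily
import Cfsg.Agent.BenderSE.Dependents.Rows
import Cfsg.Agent.BenderSE.Final
import Cfsg.Prelude.Def_Quasithin

/-!
A group of even characteristic in which one maximal 2-local subgroup controls fusion is a Bender group (row 1847),
from Goldschmidt's theorem.
-/

set_option autoImplicit false
set_option linter.unusedSectionVars false
set_option linter.style.haveILetI false

namespace Cfsg.Lib.Goldschmidt.QuasiMain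

open Subgroup Cfsg.Lib.Fusion

universe u

variable {G : Type u} [Group G] [Finite G]

/-- Conjugation by an element of `M`. -/
def ByM (M : Subgroup G) (P : Subgroup G) (f : G → G) : Prop :=
  ∃ m ∈ M, ∀ x ∈ P, f x = m * x * m⁻¹

theorem isMapClass_byM {S M : Subgroup G} (hSM : S ≤ M) :
    IsMapClass (Cfsg.groupFusionSystem S) (ByM M) where
  conj := fun _ g _ hg => ⟨g, hSM hg, fun _ _ => rfl⟩
  congr := fun _ f f' _ h ⟨m, hm, hf⟩ => ⟨m, hm, fun x hx => (h x hx).trans (hf x hx)⟩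
  mono := fun _ _ f _ hle ⟨m, hm, hf⟩ => ⟨m, hm, fun x hx => hf x (hle hx)⟩
  comp := fun _ _ f g _ _ hmap ⟨m, hm, hf⟩ ⟨m', hm', hg⟩ =>
    ⟨m' * m, mul_mem hm' hm, fun x hx => by
      show g (f x) = _
      rw [hg _ (hmap x hx), hf x hx]; group⟩
  inv := fun P f g _ _ hgf ⟨m, hm, hf⟩ => by
    refine ⟨m⁻¹, inv_mem hm, fun y hy => ?_⟩
    rw [conjMap_img hf] at hy
    obtain ⟨x, hx, rfl⟩ := hy
    show g (m * x * m⁻¹) = m⁻¹ * (m * x * m⁻¹) * m⁻¹⁻¹
    rw [← hf x hx, hgf x hx, hf x hx]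
    group

/-- A 2-local lies in a maximal one. -/
theorem exists_maximal {N : Subgroup G} (hN : Cfsg.IsTwoLocal N) :
    ∃ M, Cfsg.IsMaximalTwoLocal M ∧ N ≤ M := by
  obtain ⟨M, hM, hmax⟩ := (Set.toFinite {M : Subgroup G | Cfsg.IsTwoLocal M ∧ N ≤ M}).exists_maximal
    ⟨N, hN, le_rfl⟩
  exact ⟨M, ⟨hM.1, fun K hK hle => le_antisymm (hmax ⟨hK, hM.2.trans hle⟩ hle) hle⟩, hM.2⟩

variable (T : Sylow 2 G) {M : Subgroup G}

/-- `M` controls fusion in `T`. -/
theorem controls (hT : (T : Subgroup G) ≠ ⊥) (hM : Cfsg.maxTwoLocalsContaining (T : Subgroup G) = {M})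
    (h : ∀ D ∈ Cfsg.agConjFamily (T : Subgroup G), normalizer (D : Set G) ≤ M)
    {x g : G} (hx : x ∈ (T : Subgroup G)) (hgx : g * x * g⁻¹ ∈ (T : Subgroup G)) :
    ∃ m ∈ M, g * x * g⁻¹ = m * x * m⁻¹ := by
  classical
  haveI : Fact (Nat.Prime 2) := ⟨Nat.prime_two⟩
  have hTM : (T : Subgroup G) ≤ M := ((Set.ext_iff.1 hM M).2 rfl).2
  have hNT : normalizer ((T : Subgroup G) : Set G) ≤ M := by
    obtain ⟨K, hK, hle⟩ := exists_maximal (N := normalizer ((T : Subgroup G) : Set G)) ⟨T, T.2, hT, rfl⟩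
    have hKM : K = M := (Set.ext_iff.1 hM K).1 ⟨hK, le_normalizer.trans hle⟩
    exact hKM ▸ hle
  have hf : IsMap (Cfsg.groupFusionSystem (T : Subgroup G)) (zpowers x) (fun y => g * y * g⁻¹) := by
    refine isMap_group_iff.2 ⟨zpowers_le.2 hx, fun y hy => ?_, g, fun _ _ => rfl⟩
    obtain ⟨k, rfl⟩ := mem_zpowers_iff.1 hy
    show g * x ^ k * g⁻¹ ∈ _
    rw [← conj_zpow]
    exact zpow_mem hgx k
  obtain ⟨m, hm, he⟩ := alperin_radical T.2 (saturated_group T) (isMapClass_byM hTM)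
    (fun f hf' => by
      obtain ⟨-, hmem, c, hc⟩ := isMap_group_iff.1 hf'
      refine ⟨c, hNT ?_, hc⟩
      refine mem_normalizer_iff.2 fun y => ⟨fun hy => ?_, fun hy => ?_⟩
      · rw [← hc y hy]; exact hmem y hy
      · have hle : (T : Subgroup G).map (MulAut.conj c).toMonoidHom ≤ (T : Subgroup G) :=
          map_conj_le fun z hz => by rw [← hc z hz]; exact hmem z hz
        have he : (T : Subgroup G).map (MulAut.conj c).toMonoidHom = (T : Subgroup G) :=
          eq_of_le_of_card_ge hle (card_map_conj _ c).ge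
        obtain ⟨z, hz, hzy⟩ := he.ge hy
        rwa [mul_left_cancel (mul_right_cancel hzy.symm)])
    (fun Q _ hQn hQc hQr _ α hα => by
      rw [autGroup_group hQn.1] at hα
      have hNQ := h Q (AGFamily.mem_agConjFamily T hT hQn hQc hQr)
      suffices ∀ β ∈ Cfsg.autInducedBy (⊤ : Subgroup G) Q, ∃ m ∈ normalizer (Q : Set G), ∀ y : Q,
          ((β y : Q) : G) = m * y * m⁻¹ by
        obtain ⟨m, hm, hy⟩ := this α hα
        exact ⟨m, hNQ hm, fun y hy' => by rw [autFun_apply_mem α hy']; exact hy ⟨y, hy'⟩⟩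
      intro β hβ
      refine closure_induction (p := fun β _ => ∃ m ∈ normalizer (Q : Set G), ∀ y : Q,
          ((β y : Q) : G) = m * y * m⁻¹) ?_ ⟨1, one_mem _, fun y => by simp⟩ ?_ ?_ hβ
      · rintro β ⟨c, -, hc⟩
        refine ⟨c, mem_normalizer_iff.2 fun d => ⟨fun hd => by rw [← hc ⟨d, hd⟩]; exact (β _).2, fun hd => ?_⟩, hc⟩
        obtain ⟨e, he⟩ := β.surjective ⟨_, hd⟩
        have h' := hc e
        rw [he] at h'
        rw [mul_left_cancel (mul_right_cancel h')]
        exact e.2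
      · rintro β γ _ _ ⟨a, ha, hβ⟩ ⟨b, hb, hγ⟩
        exact ⟨a * b, mul_mem ha hb, fun y => by rw [MulAut.mul_apply, hβ, hγ]; group⟩
      · rintro β _ ⟨a, ha, hβ⟩
        refine ⟨a⁻¹, inv_mem ha, fun y => ?_⟩
        have h' := hβ (β⁻¹ y)
        rw [MulAut.apply_inv_self] at h'
        rw [h']; group)
    hf
  exact ⟨m, hm, he x (mem_zpowers x)⟩

theorem closed_of_invariant (hT : (T : Subgroup G) ≠ ⊥)
    (hM : Cfsg.maxTwoLocalsContaining (T : Subgroup G) = {M})
    (h : ∀ D ∈ Cfsg.agConjFamily (T : Subgroup G), normalizer (D : Set G) ≤ M)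
    {U : Subgroup G} (_hUM : U ≤ M) (hMU : M ≤ normalizer (U : Set G)) (hU : IsPGroup 2 U) :
    Cfsg.IsStronglyClosed U (T : Subgroup G) := by
  have hTM : (T : Subgroup G) ≤ M := ((Set.ext_iff.1 hM M).2 rfl).2
  have hle : U ≤ (T : Subgroup G) := le_sup_left.trans_eq
    (T.3 (hU.to_sup_of_normal_left' T.2 (hTM.trans hMU)) le_sup_right)
  refine ⟨hle, fun x hx g hg => ?_⟩
  obtain ⟨m, hm, e⟩ := controls T hT hM h (hle hx) hg
  rw [e]
  exact (mem_normalizer_iff.1 (hMU hm) x).1 hx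

/-- With abelian Sylow subgroups, a group of even characteristic has a strongly embedded subgroup. -/
theorem embedded_of_comm [IsSimpleGroup G] (hG : ¬ IsMulCommutative G) (hE : Cfsg.IsOfEvenCharacteristic G)
    (hT : (T : Subgroup G) ≠ ⊥) (hc : IsMulCommutative (T : Subgroup G)) :
    Cfsg.IsStronglyEmbedded (normalizer ((T : Subgroup G) : Set G)) := by
  classical
  haveI : Fact (Nat.Prime 2) := ⟨Nat.prime_two⟩
  set H := normalizer ((T : Subgroup G) : Set G) with hH
  have hTH : (T : Subgroup G) ≤ H := le_normalizer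
  have key : ∀ t ∈ (T : Subgroup G), orderOf t = 2 → centralizer ({t} : Set G) ≤ H := by
    intro t ht h2
    set C := centralizer ({t} : Set G) with hC
    have hTC : (T : Subgroup G) ≤ C := fun y hy => mem_centralizer_singleton_iff.2
      (congrArg Subtype.val (hc.is_comm.comm (⟨y, hy⟩ : (T : Subgroup G)) ⟨t, ht⟩))
    have hz : IsPGroup 2 (zpowers t) := T.2.to_le (zpowers_le.2 ht)
    have hloc : Cfsg.IsTwoLocal C := by
      refine ⟨zpowers t, hz, fun e => ?_, le_antisymm ?_ ?_⟩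
      · rw [zpowers_eq_bot.1 e, orderOf_one] at h2; omega
      · intro y hy
        have hy1 : y * t * y⁻¹ = t := by
          rw [mem_centralizer_singleton_iff.1 hy, mul_inv_cancel_right]
        refine mem_normalizer_iff.2 fun z => ⟨?_, ?_⟩
        · intro hzz
          obtain ⟨k, rfl⟩ := mem_zpowers_iff.1 hzz
          rw [← conj_zpow, hy1]
          exact zpow_mem_zpowers t k
        · intro hzz
          obtain ⟨k, hk⟩ := mem_zpowers_iff.1 hzz
          have hzk : z = t ^ k := by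
            refine mul_left_cancel (a := y) (mul_right_cancel (b := y⁻¹) ?_)
            rw [← hk, ← conj_zpow, hy1]
          rw [hzk]
          exact zpow_mem_zpowers t k
      · intro y hy
        obtain ⟨k, hk⟩ := mem_zpowers_iff.1 ((mem_normalizer_iff.1 hy t).1 (mem_zpowers t))
        refine mem_centralizer_singleton_iff.2 ?_
        rcases Int.emod_two_eq_zero_or_one k with hk2 | hk2
        · exfalso
          have h0 : t ^ k = 1 := by
            rw [← orderOf_dvd_iff_zpow_eq_one, h2]; exact_mod_cast Int.dvd_of_emod_eq_zero hk2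
          rw [h0] at hk
          have ht1 : t = 1 := by
            have h3 := congrArg (fun z => y⁻¹ * z * y) hk
            simpa [mul_assoc] using h3.symm
          rw [ht1, orderOf_one] at h2; omega
        · have h0 : t ^ k = t := by
            rw [← zpow_mod_orderOf, h2, Nat.cast_ofNat, hk2, zpow_one]
          rw [h0] at hk
          calc y * t = y * t * y⁻¹ * y := by group
            _ = t * y := by rw [← hk]
    have hF := hE C hloc ⟨T, hTC⟩
    -- `T = O₂(C)`
    haveI : (Cfsg.pCore 2 ↥C).Normal := Cfsg.Lib.Components.pCore_normal' 2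
    set TC : Sylow 2 C := T.subtype hTC
    have hOT : Cfsg.pCore 2 ↥C ≤ (TC : Subgroup C) := Cfsg.Lib.Coprime.pCore_le_sylow 2 _
    have hTO : (TC : Subgroup C) ≤ Cfsg.pCore 2 ↥C := fun y hy => hF (mem_centralizer_iff.2 fun z hz' => by
      have hzT : z ∈ (TC : Subgroup C) := hOT hz'
      simp only [TC, Sylow.coe_subtype, mem_subgroupOf] at hy hzT
      exact Subtype.ext (congrArg (fun w : (T : Subgroup G) => (w : G))
        (hc.is_comm.comm (⟨_, hzT⟩ : (T : Subgroup G)) ⟨_, hy⟩)))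
    have heq : (TC : Subgroup C) = Cfsg.pCore 2 ↥C := le_antisymm hTO hOT
    intro y hy
    refine mem_normalizer_iff.2 fun z => ?_
    have hn : ((TC : Subgroup C)).Normal := heq ▸ inferInstance
    constructor
    · intro hz'
      have h' := hn.conj_mem ⟨z, hTC hz'⟩ (by simpa [TC, mem_subgroupOf] using hz') ⟨y, hy⟩
      simpa [TC, mem_subgroupOf] using h'
    · intro hz'
      have h' := hn.conj_mem ⟨_, hTC hz'⟩ (by simpa [TC, mem_subgroupOf] using hz') ⟨y⁻¹, inv_mem hy⟩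
      simpa [TC, mem_subgroupOf, mul_assoc] using h'
  have htop : H ≠ ⊤ := by
    intro e
    haveI : (T : Subgroup G).Normal := normalizer_eq_top_iff.1 e
    rcases IsSimpleGroup.eq_bot_or_eq_top_of_normal (T : Subgroup G) inferInstance with e' | e'
    · exact hT e'
    · exact hG ⟨⟨fun a b => congrArg Subtype.val (hc.is_comm.comm (⟨a, e' ▸ mem_top a⟩ : (T : Subgroup G))
        ⟨b, e' ▸ mem_top b⟩)⟩⟩
  obtain ⟨d, hd⟩ : ∃ d : (T : Subgroup G), d ≠ 1 := by
    by_contra! hh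
    exact hT (eq_bot_iff.2 fun y hy => congrArg Subtype.val (hh ⟨y, hy⟩))
  have h2T : 2 ∣ Nat.card (T : Subgroup G) := by
    obtain ⟨k, hk⟩ := T.2 d
    obtain ⟨j, -, hj⟩ := (Nat.dvd_prime_pow Nat.prime_two).1 (orderOf_dvd_of_pow_eq_one hk)
    have hj0 : j ≠ 0 := fun e => hd (orderOf_eq_one_iff.1 (by rw [hj, e, pow_zero]))
    exact ((hj ▸ dvd_pow_self 2 hj0 : 2 ∣ orderOf d)).trans (orderOf_dvd_natCard d)
  refine ⟨htop, even_iff_two_dvd.2 (h2T.trans (card_dvd_of_le hTH)), fun g hg => ?_⟩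
  by_contra hev
  rw [Nat.not_odd_iff_even, even_iff_two_dvd] at hev
  obtain ⟨⟨s, hs⟩, hso⟩ := exists_prime_orderOf_dvd_card' 2 hev
  rw [Subgroup.orderOf_mk] at hso
  obtain ⟨hs1, hs2⟩ := mem_inf.1 hs
  obtain ⟨s', hs', hs's⟩ := hs2
  replace hs's : g * s' * g⁻¹ = s := hs's
  have hTn : ((T : Subgroup G).subgroupOf H).Normal := normal_in_normalizer
  have hmem : ∀ y ∈ H, orderOf y = 2 → y ∈ (T : Subgroup G) := by
    intro y hy ho
    have hp : IsPGroup 2 (zpowers y) := IsPGroup.of_card (n := 1) (by rw [Nat.card_zpowers, ho, pow_one])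
    exact (T.3 (hp.to_sup_of_normal_right' T.2 (zpowers_le.2 hy)) le_sup_right).le
      (mem_sup_left (mem_zpowers y))
  have hsT := hmem s hs1 hso
  have ho' : orderOf s' = 2 := by
    rw [← hso, ← hs's, ← MulAut.conj_apply, MulEquiv.orderOf_eq]
  have hs'T := hmem s' hs' ho'
  have hgT : (g • T : Sylow 2 G) = T := by
    refine Sylow.ext ?_
    have hle : ((g • T : Sylow 2 G) : Subgroup G) ≤ H := by
      intro y hy
      obtain ⟨w, hw, rfl⟩ := hy
      refine key s hsT hso (mem_centralizer_singleton_iff.2 ?_)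
      show g * w * g⁻¹ * s = s * (g * w * g⁻¹)
      have hcw : w * s' = s' * w :=
        congrArg Subtype.val (hc.is_comm.comm (⟨w, hw⟩ : (T : Subgroup G)) ⟨s', hs'T⟩)
      rw [← hs's]
      calc g * w * g⁻¹ * (g * s' * g⁻¹) = g * (w * s') * g⁻¹ := by group
        _ = g * (s' * w) * g⁻¹ := by rw [hcw]
        _ = _ := by group
    have e := T.3 ((g • T : Sylow 2 G).2.to_sup_of_normal_right' T.2 hle) le_sup_right
    exact eq_of_le_of_card_ge (le_sup_left.trans_eq e)
      ((g • T : Sylow 2 G).card_eq_multiplicity.trans T.card_eq_multiplicity.symm).ge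
  exact hg (Sylow.smul_eq_iff_mem_normalizer.1 hgT)

theorem bender_of_embedded [IsSimpleGroup G] (hG : ¬ IsMulCommutative G) {H : Subgroup G}
    (hH : Cfsg.IsStronglyEmbedded H) : Cfsg.IsBenderGroup G := by
  have h2 := Cfsg.Lib.BenderSE.comm_of_nonab hH hG
  obtain ⟨Q, hQH, hQn, htrans, hreg⟩ := Cfsg.Lib.BenderSE.regProp G inferInstance H hH h2
  rcases (Cfsg.Lib.BenderSE.simple_data hH h2 hQH hQn htrans hreg).1 with
    ⟨F, iF, iF', ⟨n, hn, hF⟩, e⟩ | h | ⟨F, iF, iF', n, hn, hF, e⟩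
  · refine Or.inl ⟨F, iF, iF', ?_, ?_, e⟩
    · exact charP_of_card_eq_prime_pow hF
    · rw [hF]
      calc 4 = 2 ^ 2 := rfl
        _ ≤ 2 ^ n := Nat.pow_le_pow_right two_pos hn
  · exact Or.inr (Or.inr h)
  · exact Or.inr (Or.inl ⟨F, iF, iF', n, hn, hF, e⟩)

/-- ROW 1847 from Goldschmidt's theorem. -/
theorem main_of_gold (gold : GoldProp.{u}) [IsSimpleGroup G] (hG : ¬ IsMulCommutative G) (hQ : Cfsg.IsQTKE G)
    (T : Sylow 2 G) (M : Subgroup G) (hM : Cfsg.maxTwoLocalsContaining (T : Subgroup G) = {M})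
    (h : ∀ D ∈ Cfsg.agConjFamily (T : Subgroup G), normalizer (D : Set G) ≤ M) :
    (∀ U : Subgroup G, U ≤ M → M ≤ normalizer (U : Set G) → IsPGroup 2 U →
        Cfsg.IsStronglyClosed U (T : Subgroup G)) ∧ Cfsg.IsBenderGroup G := by
  haveI : Fact (Nat.Prime 2) := ⟨Nat.prime_two⟩
  obtain ⟨⟨X, hX, hXne, hMX⟩, -⟩ := ((Set.ext_iff.1 hM M).2 rfl).1
  have hT : (T : Subgroup G) ≠ ⊥ := by
    intro e
    obtain ⟨S, hS⟩ := hX.exists_le_sylow
    have hc := S.card_eq_multiplicity.trans T.card_eq_multiplicity.symm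
    rw [e, card_bot, card_eq_one] at hc
    exact hXne (le_bot_iff.1 (hS.trans_eq hc))
  refine ⟨fun U hUM hMU hU => closed_of_invariant T hT hM h hUM hMU hU, ?_⟩
  haveI : Nontrivial X := (Subgroup.nontrivial_iff_ne_bot X).2 hXne
  set A := (Subgroup.center X).map X.subtype with hA
  have hA1 : A ≠ ⊥ := fun e => by
    haveI := hX.center_nontrivial
    exact (Subgroup.nontrivial_iff_ne_bot _).1 inferInstance ((map_eq_bot_iff_of_injective _ X.subtype_injective).1 e)
  have hAc : IsMulCommutative A := ⟨⟨by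
    rintro ⟨_, a, ha, rfl⟩ ⟨_, b, hb, rfl⟩
    exact Subtype.ext (congrArg (fun w : X => (w : G)) ((mem_center_iff.1 hb) a))⟩⟩
  have hMA : M ≤ normalizer (A : Set G) := by
    rw [hMX]
    intro g hg
    refine mem_normalizer_iff.2 fun y => ⟨?_, ?_⟩
    · rintro ⟨⟨c, hcX⟩, hc, rfl⟩
      refine ⟨⟨g * c * g⁻¹, (mem_normalizer_iff.1 hg c).1 hcX⟩, mem_center_iff.2 fun w => ?_, rfl⟩
      obtain ⟨w, hw⟩ := w
      have hw' : g⁻¹ * w * g ∈ X := by
        have := (mem_normalizer_iff.1 (inv_mem hg) w).1 hw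
        rwa [inv_inv] at this
      have hcw := congrArg Subtype.val (mem_center_iff.1 hc ⟨_, hw'⟩)
      refine Subtype.ext ?_
      show w * (g * c * g⁻¹) = g * c * g⁻¹ * w
      calc w * (g * c * g⁻¹) = g * ((g⁻¹ * w * g) * c) * g⁻¹ := by group
        _ = g * (c * (g⁻¹ * w * g)) * g⁻¹ := by rw [show (g⁻¹ * w * g) * c = c * (g⁻¹ * w * g) from hcw]
        _ = _ := by group
    · rintro ⟨⟨c, hcX⟩, hc, hy⟩
      replace hy : c = g * y * g⁻¹ := hy
      have hgc : g⁻¹ * c * g ∈ X := by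
        have := (mem_normalizer_iff.1 (inv_mem hg) c).1 hcX
        rwa [inv_inv] at this
      refine ⟨⟨g⁻¹ * c * g, hgc⟩, mem_center_iff.2 fun w => ?_, by show g⁻¹ * c * g = y; rw [hy]; group⟩
      obtain ⟨w, hw⟩ := w
      have hcw := congrArg Subtype.val (mem_center_iff.1 hc ⟨g * w * g⁻¹, (mem_normalizer_iff.1 hg w).1 hw⟩)
      refine Subtype.ext ?_
      show w * (g⁻¹ * c * g) = g⁻¹ * c * g * w
      calc w * (g⁻¹ * c * g) = g⁻¹ * ((g * w * g⁻¹) * c) * g := by group
        _ = g⁻¹ * (c * (g * w * g⁻¹)) * g := by rw [show (g * w * g⁻¹) * c = c * (g * w * g⁻¹) from hcw]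
        _ = _ := by group
  have hAM : A ≤ M := hMX ▸ (map_subtype_le _).trans le_normalizer
  have hsc := closed_of_invariant T hT hM h hAM hMA (hX.to_le (map_subtype_le _))
  rcases gold G T A hA1 hAc hsc with hc | ⟨H, hH⟩
  · exact bender_of_embedded hG (embedded_of_comm T hG hQ.2.2 hT hc)
  · exact bender_of_embedded hG hH

end Cfsg.Lib.Goldschmidt.QuasiMain
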