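import Cfsg.Agent.Goldschmidt.Consequences.Core
import Cfsg.Agent.S2755
import Cfsg.Agent.S2796
import Cfsg.Agent.SThreeFree.Functors
import Cfsg.Agent.OddChar.PF.OddOrder
import Cfsg.Agent.Suz.Group
import Cfsg.Agent.BenderSuzuki.SimpleEmbedded

/-!
Finite simple groups without a section `S₄` are Goldschmidt groups.
-/

set_option autoImplicit false
set_option linter.style.haveILetI false

namespace Cfsg.Lib.Goldschmidt

open Subgroup
open Cfsg.Lib.ThompsonFactor (omegaZ)

universe u

/-- The simple groups without a section `S₄` of order less than `n` are Goldschmidt groups. -/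
def SimpleBelow (n : ℕ) : Prop :=
  ∀ (Y : Type u) [Group Y] [Finite Y] [IsSimpleGroup Y], ¬ IsMulCommutative Y →
    ¬ Cfsg.Involves (Equiv.Perm (Fin 4)) Y → Nat.card Y < n → Cfsg.IsGoldschmidtGroup Y

/-- The condition on composition factors holds in constrained groups without a section `S₄`. -/
theorem comp_of_constrained {X : Type u} [Group X] [Finite X] (hfree : ¬ Cfsg.Involves (Equiv.Perm (Fin 4)) X)
    (hchar : centralizer (Cfsg.pCore 2 X : Set X) ≤ Cfsg.pCore 2 X) (ih : SimpleBelow.{u} (Nat.card X)) :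
    SThreeFree.Comp X := by
  haveI : Fact (Nat.Prime 2) := ⟨Nat.prime_two⟩
  set O := Cfsg.pCore 2 X with hO
  haveI hOn : O.Normal := Cfsg.Lib.Components.pCore_normal' 2
  have hO2 : IsPGroup 2 O := Cfsg.Lib.Components.isPGroup_pCore 2
  haveI := hO2.isNilpotent
  refine SThreeFree.comp_ext O SThreeFree.comp_of_solvable fun H hH N _ hs hn => ?_
  have h3 : ¬ Cfsg.Involves (Equiv.Perm (Fin 3)) (X ⧸ O) := by
    haveI := SThreeFree.centralizer_normal O
    refine fun hi => SThreeFree.not_involves_quotient_centralizer hfree O hO2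
      (Cfsg.Lib.QuadPair.involves_of_surjective
        (f := QuotientGroup.map (centralizer (O : Set X)) O (MonoidHom.id X) hchar) ?_ hi)
    intro q
    obtain ⟨g, rfl⟩ := QuotientGroup.mk'_surjective _ q
    exact ⟨QuotientGroup.mk' _ g, rfl⟩
  have h4 : ¬ Cfsg.Involves (Equiv.Perm (Fin 4)) (X ⧸ O) := fun hi =>
    hfree (Cfsg.Lib.QuadPair.involves_of_surjective (QuotientGroup.mk'_surjective O) hi)
  have hsec : ∀ (P : Type) [Group P], ¬ Cfsg.Involves P (X ⧸ O) → ¬ Cfsg.Involves P (H ⧸ N) := fun P _ h hi =>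
    h (Cfsg.Lib.QdFree.involves_of_injective H.subtype_injective
      (Cfsg.Lib.QuadPair.involves_of_surjective (QuotientGroup.mk'_surjective N) hi))
  have hlt : Nat.card (H ⧸ N) < Nat.card X := by
    have h1 : Nat.card (H ⧸ N) ≤ Nat.card (X ⧸ O) :=
      (Nat.le_of_dvd Nat.card_pos (card_quotient_dvd_card N)).trans (card_le_card_group H)
    have hne : O ≠ ⊥ := fun h => by
      have htop : (⊤ : Subgroup X) = ⊥ := le_bot_iff.1 (h ▸ le_trans (fun x _ =>
        mem_centralizer_iff.2 fun y hy => by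
          have hy1 : y = 1 := mem_bot.1 (h ▸ hy : y ∈ (⊥ : Subgroup X))
          rw [hy1, one_mul, mul_one]) hchar)
      have h1' : ∀ a : X, a = 1 := fun a => mem_bot.1 (htop ▸ mem_top a : a ∈ (⊥ : Subgroup X))
      haveI : Subsingleton X := ⟨fun a b => (h1' a).trans (h1' b).symm⟩
      exact hn ⟨⟨fun a b => Subsingleton.elim _ _⟩⟩
    have h2 := card_eq_card_quotient_mul_card_subgroup O
    have h3 : 2 ≤ Nat.card O := Nat.succ_le_of_lt ((one_lt_card_iff_ne_bot O).2 hne)
    have h4 : Nat.card (X ⧸ O) * 2 ≤ Nat.card X := h2 ▸ Nat.mul_le_mul_left _ h3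
    have h5 : 0 < Nat.card (X ⧸ O) := Nat.card_pos
    omega
  exact (Cfsg.Agent.S2755.result (@ih (H ⧸ N) _ _ hs hn (hsec _ h4) hlt)).2.1 (hsec _ h3)

theorem even_card_of_simple {G : Type u} [Group G] [Finite G] [IsSimpleGroup G] (hna : ¬ IsMulCommutative G) :
    Even (Nat.card G) := by
  by_contra h
  rw [Nat.not_even_iff_odd] at h
  haveI := Cfsg.Agent.PF.isSolvable_of_odd G h
  exact hna ⟨⟨fun a b => IsSimpleGroup.comm_iff_isSolvable.2 inferInstance a b⟩⟩

/-- A simple group without a section `S₄` is a Goldschmidt group. -/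
theorem goldschmidt_of_sfour_free (hG : GoldProp.{u}) (hN : Ree.Field.NoFieldProp.{u}) :
    ∀ n : ℕ, SimpleBelow.{u} n := by
  intro n
  induction n with
  | zero => intro Y _ _ _ _ _ h; omega
  | succ n ih =>
    intro G _ _ _ hna hfree hlt
    haveI : Fact (Nat.Prime 2) := ⟨Nat.prime_two⟩
    have hle : ∀ (K R : Subgroup G) [(R.subgroupOf K).Normal], Nat.card (K ⧸ R.subgroupOf K) ≤ n := fun K _ _ =>
      (Nat.le_of_dvd Nat.card_pos (card_quotient_dvd_card _)).trans
        ((card_le_card_group K).trans (by omega))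
    have hsec := fun (K R : Subgroup G) (_ : (R.subgroupOf K).Normal)
        (hchar : centralizer (Cfsg.pCore 2 (K ⧸ R.subgroupOf K) : Set (K ⧸ R.subgroupOf K)) ≤
          Cfsg.pCore 2 (K ⧸ R.subgroupOf K)) =>
      comp_of_constrained (fun h => hfree (Cfsg.Lib.QdFree.involves_of_section h)) hchar
        fun Y _ _ _ a b c => ih Y a b (c.trans_le (hle K R))
    obtain ⟨S⟩ : Nonempty (Sylow 2 G) := inferInstance
    set N := normalizer (Cfsg.thompsonSubgroupOf 2 (S : Subgroup G) : Set G)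
    set A := (normalClosure (((omegaZ 2 (S : Subgroup G)).subgroupOf N : Subgroup ↥N) : Set ↥N)).map N.subtype
      with hA
    obtain ⟨-, hAe, hAsc, -⟩ := Cfsg.Agent.S2796.result hfree hsec S N rfl A hA
    have hZA : omegaZ 2 (S : Subgroup G) ≤ A := fun x hx =>
      ⟨⟨x, le_normalizer (SThreeFree.omegaZ_le_thompson _ hx)⟩, subset_normalClosure hx, rfl⟩
    have hne : omegaZ 2 (S : Subgroup G) ≠ ⊥ := SThreeFree.omegaZ_ne_bot S.2
      (S.ne_bot_of_dvd_card (even_iff_two_dvd.1 (even_card_of_simple hna)))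
    exact goldschmidt_of_stronglyClosed hG hN hna S (fun h => hne (le_bot_iff.1 (h ▸ hZA))) hAe.1 hAsc

/-- The classification of the simple groups without a section `S₄`. -/
theorem sfour_free_iff (hG : GoldProp.{u}) (hN : Ree.Field.NoFieldProp.{u}) {G : Type u} [Group G] [Finite G]
    [IsSimpleGroup G] (hna : ¬ IsMulCommutative G) :
    ¬ Cfsg.Involves (Equiv.Perm (Fin 4)) G ↔ Cfsg.IsGoldschmidtGroup G :=
  ⟨fun h => goldschmidt_of_sfour_free hG hN (Nat.card G + 1) G hna h (Nat.lt_succ_self _),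
    fun h => (Cfsg.Agent.S2755.result h).1⟩

/-- The constrained sections of a group without a section `S₄` satisfy the condition on composition factors. -/
theorem comp_of_sfour_free (hG : GoldProp.{u}) (hN : Ree.Field.NoFieldProp.{u}) {X : Type u} [Group X] [Finite X]
    (hfree : ¬ Cfsg.Involves (Equiv.Perm (Fin 4)) X)
    (hchar : centralizer (Cfsg.pCore 2 X : Set X) ≤ Cfsg.pCore 2 X) : SThreeFree.Comp X :=
  comp_of_constrained hfree hchar (goldschmidt_of_sfour_free hG hN _)

/-- Row 2796 without the condition on the constrained sections. -/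
theorem stronglyClosed_of_sfour_free (hG : GoldProp.{u}) (hN : Ree.Field.NoFieldProp.{u}) {G : Type u} [Group G]
    [Finite G] (hfree : ¬ Cfsg.Involves (Equiv.Perm (Fin 4)) G) (S : Sylow 2 G) (N : Subgroup G)
    (hN' : N = normalizer (Cfsg.thompsonSubgroupOf 2 (S : Subgroup G) : Set G)) (A : Subgroup G)
    (hA : A = (normalClosure (((omegaZ 2 (S : Subgroup G)).subgroupOf N : Subgroup ↥N) : Set ↥N)).map N.subtype) :
    A ≤ S ∧ Cfsg.IsElementaryAbelian 2 A ∧ Cfsg.IsStronglyClosed A (S : Subgroup G) ∧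
      Cfsg.ControlsStrongFusion 2 A :=
  Cfsg.Agent.S2796.result hfree
    (fun K R _ hchar => comp_of_sfour_free hG hN (fun h => hfree (Cfsg.Lib.QdFree.involves_of_section h)) hchar)
    S N hN' A hA

/-- A simple group of order prime to `3` has the order of a Suzuki group. -/
theorem suzuki_of_coprime_three (hG : GoldProp.{u}) (hN : Ree.Field.NoFieldProp.{u}) {G : Type u} [Group G]
    [Finite G] [IsSimpleGroup G] (hna : ¬ IsMulCommutative G) (h3 : ¬ 3 ∣ Nat.card G) : Cfsg.IsSuzuki G := by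
  have hno : ∀ (P : Type) [Group P], 3 ∣ Nat.card P → ¬ Cfsg.Involves P G := by
    intro P _ h hi
    obtain ⟨K, R, _, ⟨e⟩⟩ := hi
    refine h3 (h.trans ?_)
    rw [← Nat.card_congr e.toEquiv]
    exact (card_quotient_dvd_card _).trans (card_subgroup_dvd_card K)
  have hgold := (sfour_free_iff hG hN hna).1 (hno _ (by rw [Nat.card_perm, Nat.card_fin]; decide))
  rcases (Cfsg.Agent.S2755.result hgold).2.1 (hno _ (by rw [Nat.card_perm, Nat.card_fin]; decide)) with
    ⟨F, iF, iF', m, hm, hF, ⟨f⟩⟩ | ⟨F, iF, iF', n, hF, ⟨f⟩⟩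
  · refine ⟨inferInstance, m, hm, ?_⟩
    rw [Nat.card_congr (f.trans (Cfsg.Lib.Suz.lieEquiv (⟨hm, hF⟩ : Cfsg.Lib.Suz.Par F m)).symm).toEquiv]
    exact Cfsg.Lib.Suz.card_Sz ⟨hm, hF⟩
  · exfalso
    have h := Cfsg.Lib.Classical.SmallPSL.card_psl (F := F) rfl
    rw [← Nat.card_congr f.toEquiv] at h
    have h3F : 3 ∣ Fintype.card F := hF ▸ dvd_pow_self 3 (Nat.succ_ne_zero _)
    have hdvd : 3 ∣ Nat.gcd 2 (Fintype.card F - 1) * Nat.card G := h ▸ h3F.mul_right _
    rcases Nat.prime_three.dvd_mul.1 hdvd with h' | h'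
    · have := Nat.le_of_dvd two_pos (h'.trans (Nat.gcd_dvd_left _ _))
      omega
    · exact h3 h'

end Cfsg.Lib.Goldschmidt
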